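import Mathlib
import Cfsg.Agent.H646.BR.UDefs
import Cfsg.Agent.H623.BR.PolarD
import Cfsg.Agent.H876.UWitt

/-!
# `SU_n(q)` is transitive on pairs of totally isotropic subspaces of given type (helper158, S4891)

* `witt_family` : Witt's theorem for families of vectors with the same Gram matrix;
* `exists_frame` : a basis of `U + U₂` adapted to the pair `(U, U₂)`;
* `gu_pairs`, `su_pairs`.
-/

set_option autoImplicit false
set_option linter.unusedSectionVars false

open Module

namespace Cfsg.Agent.H158.BR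

open Cfsg Matrix
open Cfsg.Agent.H2.Pol
open Cfsg.Agent.H646.BR Cfsg.Agent.H646.BR.U
open Cfsg.Agent.LieClassical.HermBasic Cfsg.Agent.LieClassical.HermSiegel
open Cfsg.Agent.H623.BR (typ)

variable {F : Type*} [Field F] [Fintype F] {n q : ℕ} (hF : Fintype.card F = q ^ 2)
include hF

/-- the value of the form on linear combinations -/
theorem herm_comb {ι : Type*} [Fintype ι] (v : ι → Fin n → F) (x y : ι → F) :
    hermForm n F q (∑ i, x i • v i) (∑ j, y j • v j) = ∑ i, ∑ j, x i * (y j ^ q * hermForm n F q (v i) (v j)) := by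
  rw [herm_sum_left]
  refine Finset.sum_congr rfl fun i _ => ?_
  rw [herm_smul_left, herm_sum_right hF, Finset.mul_sum]
  refine Finset.sum_congr rfl fun j _ => ?_
  rw [herm_smul_right]

/-- **Witt's theorem for families.** -/
theorem witt_family {ι : Type*} [Fintype ι] (v v' : ι → Fin n → F) (hv : LinearIndependent F v)
    (hv' : LinearIndependent F v') (hG : ∀ i j, hermForm n F q (v i) (v j) = hermForm n F q (v' i) (v' j)) :
    ∃ g ∈ GU n F q, ∀ i, (g : Matrix (Fin n) (Fin n) F) *ᵥ v i = v' i := by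
  let f : ↥(Submodule.span F (Set.range v)) →ₗ[F] (Fin n → F) := (Finsupp.linearCombination F v').comp hv.repr
  have hf : ∀ x : ↥(Submodule.span F (Set.range v)), f x = ∑ i, hv.repr x i • v' i := by
    intro x
    change Finsupp.linearCombination F v' (hv.repr x) = _
    rw [Finsupp.linearCombination_apply, Finsupp.sum_fintype]
    intro i
    rw [zero_smul]
  have hx : ∀ x : ↥(Submodule.span F (Set.range v)), (x : Fin n → F) = ∑ i, hv.repr x i • v i := by
    intro x
    have h1 := hv.linearCombination_repr x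
    rw [Finsupp.linearCombination_apply, Finsupp.sum_fintype _ _ (fun i => by rw [zero_smul])] at h1
    exact h1.symm
  obtain ⟨g, hg, hgf⟩ := Cfsg.Agent.H876.exists_gu_extension hF (Submodule.span F (Set.range v)) f (by
      intro x y hxy
      have h1 : hv.repr x = hv.repr y := hv' hxy
      exact LinearMap.ker_eq_bot.1 hv.repr_ker h1) (by
      intro x x'
      rw [hf, hf, hx x, hx x', herm_comb hF, herm_comb hF]
      refine Finset.sum_congr rfl fun i _ => Finset.sum_congr rfl fun j _ => ?_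
      rw [hG])
  refine ⟨g, hg, fun i => ?_⟩
  have hi : v i ∈ Submodule.span F (Set.range v) := Submodule.subset_span ⟨i, rfl⟩
  have h1 := hgf ⟨v i, hi⟩
  rw [h1]
  change Finsupp.linearCombination F v' (hv.repr ⟨v i, hi⟩) = v' i
  rw [hv.repr_eq_single i ⟨v i, hi⟩ rfl, Finsupp.linearCombination_single, one_smul]

omit hF in
/-- a basis of a subspace as a family -/
theorem exists_fam (S : Submodule F (Fin n → F)) {m : ℕ} (hm : finrank F S = m) :
    ∃ v : Fin m → Fin n → F, LinearIndependent F v ∧ Submodule.span F (Set.range v) = S := by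
  let b := finBasisOfFinrankEq F S hm
  refine ⟨fun i => (b i : Fin n → F), b.linearIndependent.map' S.subtype S.ker_subtype, ?_⟩
  have h1 : Set.range (fun i => (b i : Fin n → F)) = S.subtype '' Set.range b := by
    rw [← Set.range_comp]; rfl
  rw [h1, Submodule.span_image, b.span_eq, Submodule.map_top, Submodule.range_subtype]

omit hF in
/-- relative complements -/
theorem exists_rel_compl {A T : Submodule F (Fin n → F)} (h : A ≤ T) :
    ∃ B ≤ T, A ⊔ B = T ∧ A ⊓ B = ⊥ ∧ finrank F A + finrank F B = finrank F T := by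
  obtain ⟨A', hA'⟩ := Submodule.exists_isCompl A
  have h1 : A ⊔ A' ⊓ T = T := by
    rw [← sup_inf_assoc_of_le A' h, hA'.sup_eq_top, top_inf_eq]
  have h2 : A ⊓ (A' ⊓ T) = ⊥ := by
    rw [← inf_assoc, hA'.inf_eq_bot, bot_inf_eq]
  refine ⟨A' ⊓ T, inf_le_right, h1, h2, ?_⟩
  have h3 := Submodule.finrank_sup_add_finrank_inf_eq A (A' ⊓ T)
  rw [h1, h2, finrank_bot, add_zero] at h3
  exact h3.symm

/-- the coordinates of the vectors of `U₂` with respect to a family `c` -/
def coords {e : ℕ} (q : ℕ) (c : Fin e → Fin n → F) : (Fin n → F) →ₗ[F] (Fin e → F) where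
  toFun y i := hermForm n F q y (c i)
  map_add' x y := funext fun i => herm_add_left x y (c i)
  map_smul' a y := funext fun i => herm_smul_left a y (c i)

omit hF in
theorem coords_apply {e : ℕ} (c : Fin e → Fin n → F) (y : Fin n → F) (i : Fin e) :
    coords q c y i = hermForm n F q y (c i) := rfl

/-- the adapted complement -/
theorem ker_le {U U2 C : Submodule F (Fin n → F)} (hC : U ⊓ (hpol hF n).perp U2 ⊔ C = U) {y : Fin n → F}
    (hy : y ∈ U2) (h : ∀ x ∈ C, hermForm n F q y x = 0) : y ∈ (hpol hF n).perp U := by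
  rw [mem_perp_iff]
  intro x hx
  rw [← hC] at hx
  obtain ⟨t, ht, c, hc, rfl⟩ := Submodule.mem_sup.1 hx
  rw [herm_add_right hF, h c hc, add_zero]
  exact herm_eq_zero_swap hF ((mem_perp_iff hF).1 ht.2 y hy)

theorem zero_of_span {S : Submodule F (Fin n → F)} {e : ℕ} {c : Fin e → Fin n → F}
    (hS : Submodule.span F (Set.range c) = S) {y : Fin n → F} (h : ∀ i, hermForm n F q y (c i) = 0) :
    ∀ x ∈ S, hermForm n F q y x = 0 := by
  intro x hx
  rw [← hS] at hx
  induction hx using Submodule.span_induction with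
  | mem x hx => obtain ⟨i, rfl⟩ := hx; exact h i
  | zero => exact herm_zero_right hF y
  | add x z _ _ hx hz => rw [herm_add_right hF, hx, hz, add_zero]
  | smul a x _ hx => rw [herm_smul_right, hx, mul_zero]

/-- one inequality -/
theorem finrank_perp_le (U U2 : Submodule F (Fin n → F)) :
    finrank F U2 + finrank F ↥(U ⊓ (hpol hF n).perp U2) ≤ finrank F U + finrank F ↥(U2 ⊓ (hpol hF n).perp U) := by
  obtain ⟨C, -, hC, -, hcard⟩ := exists_rel_compl (A := U ⊓ (hpol hF n).perp U2) (T := U) inf_le_left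
  obtain ⟨c, hc, hcs⟩ := exists_fam C rfl
  let Φ : ↥U2 →ₗ[F] (Fin (finrank F C) → F) := (coords q c).comp U2.subtype
  have h1 := LinearMap.finrank_range_add_finrank_ker Φ
  have h2 : finrank F (LinearMap.range Φ) ≤ finrank F C := by
    have := Submodule.finrank_le (LinearMap.range Φ)
    rwa [finrank_fin_fun] at this
  have h3 : finrank F (LinearMap.ker Φ) ≤ finrank F ↥(U2 ⊓ (hpol hF n).perp U) := by
    have h4 := Submodule.finrank_map_subtype_eq U2 (LinearMap.ker Φ)
    rw [← h4]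
    apply Submodule.finrank_mono
    rintro _ ⟨y, hy, rfl⟩
    refine ⟨y.2, ker_le hF hC y.2 (zero_of_span hF hcs fun i => ?_)⟩
    exact congrFun (LinearMap.mem_ker.1 hy) i
  omega

/-- the index set of the frames -/
abbrev Ifr (s d e : ℕ) : Type := (Fin s ⊕ (Fin d ⊕ Fin e)) ⊕ (Fin d ⊕ Fin e)

/-- the Gram matrix of the frames -/
def gr (F : Type*) [Field F] (s d e : ℕ) : Ifr s d e → Ifr s d e → F
  | Sum.inl (Sum.inr (Sum.inr i)), Sum.inr (Sum.inr j) => if i = j then 1 else 0
  | Sum.inr (Sum.inr j), Sum.inl (Sum.inr (Sum.inr i)) => if i = j then 1 else 0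
  | _, _ => 0

/-- **an adapted basis** -/
theorem exists_frame {U U2 : Submodule F (Fin n → F)} (hU : (hpol hF n).TI U) (hU2 : (hpol hF n).TI U2) {s d e : ℕ}
    (h1 : finrank F ↥(U ⊓ U2) = s) (h2 : finrank F ↥(U ⊓ (hpol hF n).perp U2) = s + d) (h3 : finrank F U = s + d + e)
    (h4 : finrank F U2 = s + d + e) :
    ∃ v : Ifr s d e → Fin n → F, LinearIndependent F v ∧ (∀ i j, hermForm n F q (v i) (v j) = gr F s d e i j) ∧
      Submodule.span F (Set.range fun i => v (Sum.inl i)) = U ∧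
      Submodule.span F (Set.range (fun i => v (Sum.inl (Sum.inl i))) ∪ Set.range fun i => v (Sum.inr i)) = U2 := by
  rw [TI_iff] at hU hU2
  set T := U ⊓ (hpol hF n).perp U2 with hT
  set T2 := U2 ⊓ (hpol hF n).perp U with hT2
  have h5 : finrank F T2 = s + d := by
    have a1 : finrank F U2 + finrank F T ≤ finrank F U + finrank F T2 := finrank_perp_le hF U U2
    have a2 : finrank F U + finrank F T2 ≤ finrank F U2 + finrank F T := finrank_perp_le hF U2 U
    omega
  have hAT : U ⊓ U2 ≤ T := by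
    intro x hx
    refine ⟨hx.1, (mem_perp_iff hF).2 ?_⟩
    intro y hy
    exact hU2 x hx.2 y hy
  have hAT2 : U ⊓ U2 ≤ T2 := by
    intro x hx
    refine ⟨hx.2, (mem_perp_iff hF).2 ?_⟩
    intro y hy
    exact hU x hx.1 y hy
  obtain ⟨B, hBT, hAB, hAB', hB⟩ := exists_rel_compl hAT
  obtain ⟨B2, hB2T, hAB2, hAB2', hB2⟩ := exists_rel_compl hAT2
  obtain ⟨C, hCU, hTC, hTC', hC⟩ := exists_rel_compl (A := T) (T := U) inf_le_left
  obtain ⟨a, ha, has⟩ := exists_fam (U ⊓ U2) h1
  obtain ⟨b, hb, hbs⟩ := exists_fam B (m := d) (by omega)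
  obtain ⟨b2, hb2, hb2s⟩ := exists_fam B2 (m := d) (by omega)
  obtain ⟨c, hc, hcs⟩ := exists_fam C (m := e) (by omega)
  -- the dual family
  let Φ : ↥U2 →ₗ[F] (Fin e → F) := (coords q c).comp U2.subtype
  have hker : ∀ y : ↥U2, Φ y = 0 → (y : Fin n → F) ∈ T2 := by
    intro y hy
    exact ⟨y.2, ker_le hF hTC y.2 (zero_of_span hF hcs fun i => congrFun hy i)⟩
  have hsurj : Function.Surjective Φ := by
    rw [← LinearMap.range_eq_top]
    apply Submodule.eq_top_of_finrank_eq
    have a1 := LinearMap.finrank_range_add_finrank_ker Φ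
    have a2 : finrank F (LinearMap.ker Φ) ≤ finrank F T2 := by
      rw [← Submodule.finrank_map_subtype_eq U2 (LinearMap.ker Φ)]
      apply Submodule.finrank_mono
      rintro _ ⟨y, hy, rfl⟩
      exact hker y (LinearMap.mem_ker.1 hy)
    have a3 := Submodule.finrank_le (LinearMap.range Φ)
    rw [finrank_fin_fun] at a3 ⊢
    omega
  choose c2' hc2' using fun j : Fin e => hsurj (Pi.single j 1)
  let c2 : Fin e → Fin n → F := fun j => (c2' j : Fin n → F)
  have hc2U : ∀ j, c2 j ∈ U2 := fun j => (c2' j).2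
  have hc2c : ∀ i j, hermForm n F q (c2 j) (c i) = if i = j then 1 else 0 := by
    intro i j
    have a1 : Φ (c2' j) i = (Pi.single j 1 : Fin e → F) i := congrFun (hc2' j) i
    rw [Pi.single_apply] at a1
    exact a1
  have hcc2 : ∀ i j, hermForm n F q (c i) (c2 j) = if i = j then 1 else 0 := by
    intro i j
    rw [herm_swap hF (c2 j) (c i), hc2c]
    split_ifs
    · exact one_pow q
    · exact zero_pow_q hF
  -- memberships
  have haU : ∀ i, a i ∈ U ⊓ U2 := fun i => has ▸ Submodule.subset_span ⟨i, rfl⟩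
  have hbB : ∀ i, b i ∈ B := fun i => hbs ▸ Submodule.subset_span ⟨i, rfl⟩
  have hb2B : ∀ i, b2 i ∈ B2 := fun i => hb2s ▸ Submodule.subset_span ⟨i, rfl⟩
  have hcC : ∀ i, c i ∈ C := fun i => hcs ▸ Submodule.subset_span ⟨i, rfl⟩
  let v : Ifr s d e → Fin n → F := Sum.elim (Sum.elim a (Sum.elim b c)) (Sum.elim b2 c2)
  have hvU : ∀ i, v (Sum.inl i) ∈ U := by
    rintro (i | i | i)
    · exact (haU i).1
    · exact (hBT (hbB i)).1
    · exact hCU (hcC i)
  have hvU2 : ∀ i, v (Sum.inr i) ∈ U2 := by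
    rintro (i | i)
    · exact (hB2T (hb2B i)).1
    · exact hc2U i
  refine ⟨v, ?_, ?_, ?_, ?_⟩
  · -- linear independence
    rw [Fintype.linearIndependent_iff]
    intro g hg
    rw [Fintype.sum_sum_type, Fintype.sum_sum_type, Fintype.sum_sum_type, Fintype.sum_sum_type] at hg
    set xa := ∑ i, g (Sum.inl (Sum.inl i)) • v (Sum.inl (Sum.inl i)) with hxa
    set xb := ∑ i, g (Sum.inl (Sum.inr (Sum.inl i))) • v (Sum.inl (Sum.inr (Sum.inl i))) with hxb
    set xc := ∑ i, g (Sum.inl (Sum.inr (Sum.inr i))) • v (Sum.inl (Sum.inr (Sum.inr i))) with hxc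
    set yb := ∑ i, g (Sum.inr (Sum.inl i)) • v (Sum.inr (Sum.inl i)) with hyb
    set yc := ∑ i, g (Sum.inr (Sum.inr i)) • v (Sum.inr (Sum.inr i)) with hyc
    have mxa : xa ∈ U ⊓ U2 := Submodule.sum_mem _ fun i _ => Submodule.smul_mem _ _ (haU i)
    have mxb : xb ∈ B := Submodule.sum_mem _ fun i _ => Submodule.smul_mem _ _ (hbB i)
    have mxc : xc ∈ C := Submodule.sum_mem _ fun i _ => Submodule.smul_mem _ _ (hcC i)
    have myb : yb ∈ B2 := Submodule.sum_mem _ fun i _ => Submodule.smul_mem _ _ (hb2B i)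
    have hxU : xa + (xb + xc) ∈ U := U.add_mem mxa.1 (U.add_mem (hBT mxb).1 (hCU mxc))
    have g5 : ∀ i, g (Sum.inr (Sum.inr i)) = 0 := by
      intro j
      have e1 : hermForm n F q (xa + (xb + xc) + (yb + yc)) (c j) = 0 := by rw [hg, herm_zero_left]
      have e2 : hermForm n F q (xa + (xb + xc)) (c j) = 0 := hU _ hxU _ (hCU (hcC j))
      have e3 : hermForm n F q yb (c j) = 0 := (mem_perp_iff hF).1 (hB2T myb).2 _ (hCU (hcC j))
      have e4 : hermForm n F q yc (c j) = g (Sum.inr (Sum.inr j)) := by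
        rw [hyc, herm_sum_left, Finset.sum_eq_single j]
        · rw [herm_smul_left]
          change _ * hermForm n F q (c2 j) (c j) = _
          rw [hc2c, if_pos rfl, mul_one]
        · intro i _ hi
          rw [herm_smul_left]
          change _ * hermForm n F q (c2 i) (c j) = _
          rw [hc2c, if_neg (Ne.symm hi), mul_zero]
        · intro h
          exact absurd (Finset.mem_univ _) h
      rw [herm_add_left (xa + (xb + xc)) (yb + yc), e2, herm_add_left yb yc, e3, e4, zero_add, zero_add] at e1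
      exact e1
    have hyc0 : yc = 0 := by
      rw [hyc]
      exact Finset.sum_eq_zero fun i _ => by rw [g5, zero_smul]
    rw [hyc0, add_zero] at hg
    have hyb0 : yb = 0 := by
      have e1 : yb ∈ U := by
        rw [eq_neg_of_add_eq_zero_right hg]
        exact U.neg_mem hxU
      have e2 : yb ∈ (U ⊓ U2) ⊓ B2 := ⟨⟨e1, (hB2T myb).1⟩, myb⟩
      rw [hAB2'] at e2
      exact (Submodule.mem_bot F).1 e2
    rw [hyb0, add_zero] at hg
    have hxc0 : xc = 0 := by
      have e1 : xc ∈ T := by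
        have e3 : xc = -(xa + xb) := by
          rw [eq_neg_iff_add_eq_zero, add_comm, add_assoc]
          exact hg
        rw [e3]
        exact T.neg_mem (T.add_mem (hAT mxa) (hBT mxb))
      have e2 : xc ∈ T ⊓ C := ⟨e1, mxc⟩
      rw [hTC'] at e2
      exact (Submodule.mem_bot F).1 e2
    rw [hxc0, add_zero] at hg
    have hxb0 : xb = 0 := by
      have e1 : xb ∈ U ⊓ U2 := by
        rw [eq_neg_of_add_eq_zero_right hg]
        exact Submodule.neg_mem _ mxa
      have e2 : xb ∈ (U ⊓ U2) ⊓ B := ⟨e1, mxb⟩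
      rw [hAB'] at e2
      exact (Submodule.mem_bot F).1 e2
    rw [hxb0, add_zero] at hg
    rintro ((i | i | i) | (i | i))
    · exact Fintype.linearIndependent_iff.1 ha (fun i => g (Sum.inl (Sum.inl i))) hg i
    · exact Fintype.linearIndependent_iff.1 hb (fun i => g (Sum.inl (Sum.inr (Sum.inl i)))) hxb0 i
    · exact Fintype.linearIndependent_iff.1 hc (fun i => g (Sum.inl (Sum.inr (Sum.inr i)))) hxc0 i
    · exact Fintype.linearIndependent_iff.1 hb2 (fun i => g (Sum.inr (Sum.inl i))) hyb0 i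
    · exact g5 i
  · -- the Gram matrix
    rintro (i | i) (j | j)
    · rw [hU _ (hvU i) _ (hvU j)]
      rcases i with (i | i | i) <;> rcases j with (j | j | j) <;> rfl
    · rcases i with (i | i | i)
      · rw [show hermForm n F q (v (Sum.inl (Sum.inl i))) (v (Sum.inr j)) = 0 from hU2 _ (haU i).2 _ (hvU2 j)]
        rcases j with (j | j) <;> rfl
      · rw [show hermForm n F q (v (Sum.inl (Sum.inr (Sum.inl i)))) (v (Sum.inr j)) = 0 from
          (mem_perp_iff hF).1 (hBT (hbB i)).2 _ (hvU2 j)]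
        rcases j with (j | j) <;> rfl
      · rcases j with (j | j)
        · exact herm_eq_zero_swap hF ((mem_perp_iff hF).1 (hB2T (hb2B j)).2 _ (hCU (hcC i)))
        · exact hcc2 i j
    · rcases j with (j | j | j)
      · rw [show hermForm n F q (v (Sum.inr i)) (v (Sum.inl (Sum.inl j))) = 0 from hU2 _ (hvU2 i) _ (haU j).2]
        rcases i with (i | i) <;> rfl
      · rw [show hermForm n F q (v (Sum.inr i)) (v (Sum.inl (Sum.inr (Sum.inl j)))) = 0 from
          herm_eq_zero_swap hF ((mem_perp_iff hF).1 (hBT (hbB j)).2 _ (hvU2 i))]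
        rcases i with (i | i) <;> rfl
      · rcases i with (i | i)
        · exact (mem_perp_iff hF).1 (hB2T (hb2B i)).2 _ (hCU (hcC j))
        · exact hc2c j i
    · rw [hU2 _ (hvU2 i) _ (hvU2 j)]
      rcases i with (i | i) <;> rcases j with (j | j) <;> rfl
  · -- the span of the first part
    apply le_antisymm
    · rw [Submodule.span_le]
      rintro _ ⟨i, rfl⟩
      exact hvU i
    · rw [← hTC, ← hAB, ← has, ← hbs, ← hcs]
      refine sup_le (sup_le ?_ ?_) ?_ <;> apply Submodule.span_mono <;> rintro _ ⟨i, rfl⟩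
      · exact ⟨Sum.inl i, rfl⟩
      · exact ⟨Sum.inr (Sum.inl i), rfl⟩
      · exact ⟨Sum.inr (Sum.inr i), rfl⟩
  · apply le_antisymm
    · rw [Submodule.span_le]
      rintro _ (⟨i, rfl⟩ | ⟨i, rfl⟩)
      · exact (haU i).2
      · exact hvU2 i
    · intro y hy
      -- subtract the dual part
      set S := Submodule.span F (Set.range (fun i => v (Sum.inl (Sum.inl i))) ∪ Set.range fun i => v (Sum.inr i)) with hS
      have hT2S : T2 ≤ S := by
        rw [← hAB2, ← has, ← hb2s]
        refine sup_le ?_ ?_ <;> apply Submodule.span_mono <;> rintro _ ⟨i, rfl⟩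
        · exact Or.inl ⟨i, rfl⟩
        · exact Or.inr ⟨Sum.inl i, rfl⟩
      have hc2S : ∀ j, c2 j ∈ S := fun j => Submodule.subset_span (Or.inr ⟨Sum.inr j, rfl⟩)
      let z : ↥U2 := ⟨y, hy⟩ - ∑ j, Φ ⟨y, hy⟩ j • c2' j
      have hz : Φ z = 0 := by
        rw [map_sub, map_sum, sub_eq_zero]
        have e1 : ∀ j, Φ (Φ ⟨y, hy⟩ j • c2' j) = Pi.single j (Φ ⟨y, hy⟩ j) := by
          intro j
          rw [map_smul, hc2', ← Pi.single_smul, smul_eq_mul, mul_one]
        rw [Finset.sum_congr rfl fun j _ => e1 j, Finset.univ_sum_single]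
      have hzT := hT2S (hker z hz)
      have e2 : y = (z : Fin n → F) + ∑ j, Φ ⟨y, hy⟩ j • c2 j := by
        have e3 : (z : Fin n → F) = y - ∑ j, Φ ⟨y, hy⟩ j • c2 j := by
          change ((⟨y, hy⟩ - ∑ j, Φ ⟨y, hy⟩ j • c2' j : ↥U2) : Fin n → F) = _
          rw [Submodule.coe_sub, Submodule.coe_sum]
          rfl
        rw [e3, sub_add_cancel]
      rw [e2]
      exact S.add_mem hzT (Submodule.sum_mem _ fun j _ => S.smul_mem _ (hc2S j))

/-- the image of a subspace under a matrix -/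
def mp (g : GL (Fin n) F) (U : Submodule F (Fin n → F)) : Submodule F (Fin n → F) :=
  U.map (Matrix.mulVecLin (g : Matrix (Fin n) (Fin n) F))

omit [Fintype F] hF in
theorem mp_mul (g h : GL (Fin n) F) (U : Submodule F (Fin n → F)) : mp (g * h) U = mp g (mp h U) := by
  unfold mp
  rw [← Submodule.map_comp, ← Matrix.mulVecLin_mul]
  rfl

omit [Fintype F] hF in
theorem mp_eq_of_le {g : GL (Fin n) F} {U : Submodule F (Fin n → F)}
    (h : ∀ x ∈ U, (g : Matrix (Fin n) (Fin n) F) *ᵥ x ∈ U) : mp g U = U := by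
  apply Submodule.eq_of_le_of_finrank_eq
  · rintro _ ⟨x, hx, rfl⟩
    exact h x hx
  · apply LinearEquiv.finrank_eq
    refine (Submodule.equivMapOfInjective _ ?_ U).symm
    intro x y hxy
    have h1 : (g : Matrix (Fin n) (Fin n) F) *ᵥ x = (g : Matrix (Fin n) (Fin n) F) *ᵥ y := hxy
    have h2 := congrArg (fun z => ((g⁻¹ : GL (Fin n) F) : Matrix (Fin n) (Fin n) F) *ᵥ z) h1
    simp only [mulVec_mulVec] at h2
    rw [← Units.val_mul, inv_mul_cancel, Units.val_one, one_mulVec, one_mulVec] at h2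
    exact h2

/-- **`GU` on pairs.** -/
theorem gu_pairs {U U2 W W2 : Submodule F (Fin n → F)} (hU : (hpol hF n).TI U) (hU2 : (hpol hF n).TI U2)
    (hW : (hpol hF n).TI W) (hW2 : (hpol hF n).TI W2) {k : ℕ} (dU : finrank F U = k) (dU2 : finrank F U2 = k)
    (dW : finrank F W = k) (dW2 : finrank F W2 = k) (h : typ (hpol hF n) U U2 = typ (hpol hF n) W W2) :
    ∃ g ∈ GU n F q, mp g U = W ∧ mp g U2 = W2 := by
  have hA : finrank F ↥(U ⊓ U2) = finrank F ↥(W ⊓ W2) := congrArg Prod.fst h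
  have hB : finrank F ↥(U ⊓ (hpol hF n).perp U2) = finrank F ↥(W ⊓ (hpol hF n).perp W2) := congrArg Prod.snd h
  have l1 : finrank F ↥(U ⊓ U2) ≤ finrank F ↥(U ⊓ (hpol hF n).perp U2) := by
    apply Submodule.finrank_mono
    intro x hx
    exact ⟨hx.1, (mem_perp_iff hF).2 fun y hy => (TI_iff hF).1 hU2 x hx.2 y hy⟩
  have l2 : finrank F ↥(U ⊓ (hpol hF n).perp U2) ≤ finrank F U := Submodule.finrank_mono inf_le_left
  obtain ⟨d, hd⟩ := Nat.exists_eq_add_of_le l1
  obtain ⟨e, he⟩ := Nat.exists_eq_add_of_le l2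
  obtain ⟨v, hv, hvg, hv1, hv2⟩ := exists_frame hF hU hU2 (s := finrank F ↥(U ⊓ U2)) (d := d) (e := e) rfl hd
    (by rw [he, hd]) (by rw [dU2, ← dU, he, hd])
  obtain ⟨v', hv', hvg', hv1', hv2'⟩ := exists_frame hF hW hW2 (s := finrank F ↥(U ⊓ U2)) (d := d) (e := e) hA.symm
    (by rw [← hB, hd]) (by rw [dW, ← dU, he, hd]) (by rw [dW2, ← dU, he, hd])
  obtain ⟨g, hg, hgv⟩ := witt_family hF v v' hv hv' fun i j => by rw [hvg, hvg']
  refine ⟨g, hg, ?_, ?_⟩
  · rw [mp, ← hv1, ← hv1', Submodule.map_span, ← Set.range_comp]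
    congr 2
    funext i
    exact hgv _
  · rw [mp, ← hv2, ← hv2', Submodule.map_span, Set.image_union, ← Set.range_comp, ← Set.range_comp]
    congr 3
    · funext i
      exact hgv _
    · funext i
      exact hgv _

/-- hyperbolic pairs adapted to two totally isotropic subspaces -/
theorem exists_hyp {U U2 : Submodule F (Fin n → F)} (hU : (hpol hF n).TI U) (hU2 : (hpol hF n).TI U2) (hne : U ≠ ⊥) :
    ∃ u v : Fin n → F, hermForm n F q u u = 0 ∧ hermForm n F q v v = 0 ∧ hermForm n F q u v = 1 ∧ u ∈ U ∧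
      ((∀ x ∈ U2, hermForm n F q x v = 0) ∨ u ∈ U2) ∧ ((∀ x ∈ U2, hermForm n F q x u = 0) ∨ v ∈ U2) := by
  rw [TI_iff] at hU hU2
  -- making a vector isotropic
  have key : ∀ u w : Fin n → F, hermForm n F q u u = 0 → hermForm n F q u w = 1 →
      ∃ c : F, hermForm n F q (w + c • u) (w + c • u) = 0 ∧ hermForm n F q u (w + c • u) = 1 := by
    intro u w huu huw
    have hwu : hermForm n F q w u = 1 := by rw [herm_swap hF u w, huw, one_pow]
    obtain ⟨c, hc⟩ := exists_trace_eq hF (c := -(hermForm n F q w w)) (by rw [neg_pow_q hF, herm_self_pow hF])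
    refine ⟨c, ?_, ?_⟩
    · rw [herm_add_left, herm_add_right hF, herm_add_right hF, herm_smul_left, herm_smul_right, herm_smul_left,
        herm_smul_right, huu, huw, hwu]
      linear_combination hc
    · rw [herm_add_right hF, herm_smul_right, huu, huw, mul_zero, add_zero]
  by_cases h1 : ∃ c ∈ U, ∃ c2 ∈ U2, hermForm n F q c c2 ≠ 0
  · obtain ⟨c, hc, c2, hc2, h2⟩ := h1
    have h3 : hermForm n F q c2 c ≠ 0 := fun h => h2 (herm_eq_zero_swap hF h)
    refine ⟨c, (hermForm n F q c2 c)⁻¹ • c2, hU c hc c hc, ?_, ?_, hc, Or.inl fun x hx => ?_, Or.inr ?_⟩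
    · rw [herm_smul_left, herm_smul_right, hU2 c2 hc2 c2 hc2, mul_zero, mul_zero]
    · rw [herm_smul_right, inv_pow, ← herm_swap hF c2 c, inv_mul_cancel₀ h2]
    · rw [herm_smul_right, hU2 x hx c2 hc2, mul_zero]
    · exact U2.smul_mem _ hc2
  · push Not at h1
    have h1' : ∀ c ∈ U, ∀ x ∈ U2, hermForm n F q x c = 0 := fun c hc x hx => herm_eq_zero_swap hF (h1 c hc x hx)
    by_cases h2 : ∃ u ∈ U ⊓ U2, u ≠ 0
    · obtain ⟨u, hu, hu0⟩ := h2
      obtain ⟨w, hw⟩ := exists_herm_ne_zero hF hu0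
      have hw' : hermForm n F q w u ≠ 0 := fun h => hw (herm_eq_zero_swap hF h)
      obtain ⟨c, hc1, hc2⟩ := key u ((hermForm n F q w u)⁻¹ • w) (hU u hu.1 u hu.1) (by
        rw [herm_smul_right, inv_pow, ← herm_swap hF w u, inv_mul_cancel₀ hw])
      exact ⟨u, _, hU u hu.1 u hu.1, hc1, hc2, hu.1, Or.inr hu.2, Or.inl (h1' u hu.1)⟩
    · push Not at h2
      obtain ⟨u, hu, hu0⟩ := Submodule.exists_mem_ne_zero_of_ne_bot hne
      have huU2 : u ∉ U2 := fun h => hu0 (h2 u ⟨hu, h⟩)
      obtain ⟨f, hf, hfU2⟩ := Submodule.exists_le_ker_of_notMem huU2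
      obtain ⟨w, hw⟩ := Cfsg.Agent.ClassicalGeometry.HermWitt.exists_represent (conj hF : F →+* F)
        (Cfsg.Agent.H876.hermB (n := n) hF)
        (fun x hx => herm_nondeg hF fun v => herm_eq_zero_swap hF (hx v)) (LinearMap.id : (Fin n → F) →ₗ[F] (Fin n → F))
        Function.injective_id ((f u)⁻¹ • f)
      have hw' : ∀ x, hermForm n F q x w = (f u)⁻¹ * f x := fun x => hw x
      obtain ⟨c, hc1, hc2⟩ := key u w (hU u hu u hu) (by rw [hw', inv_mul_cancel₀ hf])
      refine ⟨u, _, hU u hu u hu, hc1, hc2, hu, Or.inl fun x hx => ?_, Or.inl (h1' u hu)⟩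
      have h3 : f x = 0 := hfU2 hx
      rw [herm_add_right hF, herm_smul_right, h1' u hu x hx, mul_zero, hw', h3, mul_zero, add_zero]

/-- elements of the stabiliser of the pair with given determinant -/
theorem exists_scale {U U2 : Submodule F (Fin n → F)} (hU : (hpol hF n).TI U) (hU2 : (hpol hF n).TI U2) (hne : U ≠ ⊥)
    {δ : F} (hδ : δ * δ ^ q = 1) :
    ∃ g ∈ GU n F q, (g : Matrix (Fin n) (Fin n) F).det = δ ∧ mp g U = U ∧ mp g U2 = U2 := by
  obtain ⟨u, v, huu, hvv, huv, hu, h1, h2⟩ := exists_hyp hF hU hU2 hne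
  have hvu : hermForm n F q v u = 1 := by rw [herm_swap hF u v, huv, one_pow]
  obtain ⟨a, ha0, ha⟩ := Cfsg.Agent.ClassicalGeometry.HermWitt.hilbert90 (conj hF : F →+* F)
    (by
      intro h
      obtain ⟨x, hx⟩ := exists_not_fixed hF
      exact hx (RingHom.congr_fun h x))
    (fun a => pow_q_pow_q hF a) δ hδ
  have ha' : δ * a ^ q = a := ha
  have haq : a ^ q ≠ 0 := fun h => ha0 ((pow_q_eq_zero hF).1 h)
  set b : F := (a ^ q)⁻¹ with hb
  have hab1 : b * a ^ q = 1 := inv_mul_cancel₀ haq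
  have hab2 : a * b ^ q = 1 := by
    rw [hb, inv_pow, pow_q_pow_q hF, mul_inv_cancel₀ ha0]
  have haq1 : (a - 1) ^ q = a ^ q - 1 := by rw [sub_pow_q hF, one_pow]
  have hbq1 : (b - 1) ^ q = b ^ q - 1 := by rw [sub_pow_q hF, one_pow]
  let M : Matrix (Fin n) (Fin n) F :=
    Cfsg.Agent.ClassicalGeometry.UnitTransv.rankOne q ((a - 1) • u) v *
      Cfsg.Agent.ClassicalGeometry.UnitTransv.rankOne q ((b - 1) • v) u
  have hM : ∀ x, M *ᵥ x = x + ((b - 1) * hermForm n F q x u) • v + ((a - 1) * hermForm n F q x v) • u := by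
    intro x
    rw [← mulVec_mulVec, Cfsg.Agent.ClassicalGeometry.UnitTransv.rankOne_mulVec,
      Cfsg.Agent.ClassicalGeometry.UnitTransv.rankOne_mulVec, herm_add_left, herm_smul_left, herm_smul_left, hvv,
      mul_zero, mul_zero, add_zero, smul_smul, smul_smul, mul_comm (hermForm n F q x u), mul_comm (hermForm n F q x v)]
  have hiso : ∀ x y, hermForm n F q (M *ᵥ x) (M *ᵥ y) = hermForm n F q x y := by
    intro x y
    rw [hM, hM]
    simp only [herm_add_left, herm_add_right hF, herm_smul_left, herm_smul_right, huu, hvv, huv, hvu]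
    rw [herm_swap hF y v, herm_swap hF y u, mul_pow, mul_pow, haq1, hbq1]
    linear_combination (hermForm n F q x v * hermForm n F q y u ^ q) * hab2 +
      (hermForm n F q x u * hermForm n F q y v ^ q) * hab1
  obtain ⟨g, hg, hgM⟩ := Cfsg.Agent.ClassicalGeometry.HermOrtho.exists_GU_of_isometry hF hiso
  refine ⟨g, hg, ?_, ?_, ?_⟩
  · rw [hgM]
    change (_ * _ : Matrix (Fin n) (Fin n) F).det = _
    rw [Matrix.det_mul, Cfsg.Agent.ClassicalGeometry.UnitTransv.det_rankOne,
      Cfsg.Agent.ClassicalGeometry.UnitTransv.det_rankOne, herm_smul_left, herm_smul_left, huv, hvu]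
    have h3 : δ = a * b := by
      rw [hb, ← div_eq_mul_inv, eq_div_iff haq, ha']
    rw [h3]
    ring
  · apply mp_eq_of_le
    intro x hx
    rw [hgM, hM]
    have h3 : hermForm n F q x u = 0 := (TI_iff hF).1 hU x hx u hu
    rw [h3, mul_zero, zero_smul, add_zero]
    exact U.add_mem hx (U.smul_mem _ hu)
  · apply mp_eq_of_le
    intro x hx
    rw [hgM, hM]
    refine U2.add_mem (U2.add_mem hx ?_) ?_
    · rcases h2 with h2 | h2
      · rw [h2 x hx, mul_zero, zero_smul]; exact U2.zero_mem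
      · exact U2.smul_mem _ h2
    · rcases h1 with h1 | h1
      · rw [h1 x hx, mul_zero, zero_smul]; exact U2.zero_mem
      · exact U2.smul_mem _ h1

/-- **`SU` on pairs.** -/
theorem su_pairs {k : ℕ} (hk : 1 ≤ k) (U U2 W W2 : uX hF n k)
    (h : typ (hpol hF n) U.1 U2.1 = typ (hpol hF n) W.1 W2.1) : ∃ g : SU n F q, g • U = W ∧ g • U2 = W2 := by
  obtain ⟨g, hg, hg1, hg2⟩ := gu_pairs hF U.2.1 U2.2.1 W.2.1 W2.2.1 U.2.2 U2.2.2 W.2.2 W2.2.2 h
  have hdet : (g : Matrix (Fin n) (Fin n) F).det ^ (q + 1) = 1 :=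
    Cfsg.Agent.ClassicalGeometry.GUBasic.det_pow hF ((mem_GU_iff g).1 hg)
  have hd0 : (g : Matrix (Fin n) (Fin n) F).det ≠ 0 := by
    intro h0
    rw [h0, zero_pow (Nat.succ_ne_zero q)] at hdet
    exact zero_ne_one hdet
  have hUne : U.1 ≠ ⊥ := by
    intro h0
    have h1 := U.2.2
    rw [h0, finrank_bot] at h1
    omega
  obtain ⟨t, ht, htd, ht1, ht2⟩ := exists_scale hF U.2.1 U2.2.1 hUne (δ := ((g : Matrix (Fin n) (Fin n) F).det)⁻¹) (by
    rw [← pow_succ', inv_pow, hdet, inv_one])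
  have hgt : g * t ∈ GU n F q := mul_mem hg ht
  have hd : ((g * t : GL (Fin n) F) : Matrix (Fin n) (Fin n) F).det = 1 := by
    rw [Units.val_mul, Matrix.det_mul, htd, mul_inv_cancel₀ hd0]
  let A : SU n F q := ⟨⟨((g * t : GL (Fin n) F) : Matrix (Fin n) (Fin n) F), hd⟩, hgt⟩
  have hA : ∀ X : uX hF n k, (A • X).1 = mp (g * t) X.1 := by
    intro X
    rfl
  refine ⟨A, Subtype.ext ?_, Subtype.ext ?_⟩
  · rw [hA, mp_mul, ht1, hg1]
  · rw [hA, mp_mul, ht2, hg2]

/-- `SU` acts in the sense of helper623 -/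
theorem act_su : Cfsg.Agent.H623.BR.Act (hpol hF n) (SU n F q) := by
  refine Cfsg.Agent.H623.BR.Act.of_linear fun g => ⟨suL n F q g, fun x y => ?_, fun j U => rfl⟩
  rw [(pres_su hF g).1]

/-- `PSU` acts in the sense of helper623 -/
theorem act_psu (hn : 3 ≤ n) :
    letI : ∀ j, MulAction (PSU n F q) ((hpol hF n).X j) := fun j => psuAct hF hn j
    Cfsg.Agent.H623.BR.Act (hpol hF n) (PSU n F q) := by
  letI : ∀ j, MulAction (PSU n F q) ((hpol hF n).X j) := fun j => psuAct hF hn j
  refine Cfsg.Agent.H623.BR.Act.of_linear fun g => ?_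
  obtain ⟨g, rfl⟩ := QuotientGroup.mk_surjective g
  refine ⟨suL n F q g, fun x y => ?_, fun j U => rfl⟩
  rw [(pres_su hF g).1]

/-- **`PSU` on pairs**, all dimensions (`k = 0` included). -/
theorem psu_pairs (hn : 3 ≤ n) {k : ℕ} (U U2 W W2 : uX hF n k)
    (h : typ (hpol hF n) U.1 U2.1 = typ (hpol hF n) W.1 W2.1) :
    letI : MulAction (PSU n F q) (uX hF n k) := psuAct hF hn k
    ∃ g : PSU n F q, g • U = W ∧ g • U2 = W2 := by
  letI : MulAction (PSU n F q) (uX hF n k) := psuAct hF hn k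
  rcases Nat.eq_zero_or_pos k with hk | hk
  · subst hk
    have h0 : ∀ X Y : uX hF n 0, X = Y := by
      intro X Y
      apply Subtype.ext
      rw [Submodule.finrank_eq_zero.1 X.2.2, Submodule.finrank_eq_zero.1 Y.2.2]
    exact ⟨1, h0 _ _, h0 _ _⟩
  · obtain ⟨g, h1, h2⟩ := su_pairs hF hk U U2 W W2 h
    exact ⟨QuotientGroup.mk g, h1, h2⟩

end Cfsg.Agent.H158.BR
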